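import Mathlib
import Groth.Agent.Lib.Helper6.ValFin.VF1
import Groth.Agent.Lib.Helper4.DimFT1

/-!
# Valuation rings of the function field of an affine curve not containing the coordinate ring

For a one-dimensional finitely generated domain `A` over a field `k` with fraction field `F`, only
finitely many valuation subrings of `F` contain `k` but not `A`: by Noether normalisation `A` is
finite over `k[x]`, such a valuation ring cannot contain `x`, hence restricts to the valuation ring
at infinity of `k(x)`, and there are only finitely many valuation rings of the finite extension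
`F / k(x)` over a given one (`ValFin.over_finite`).
-/

set_option autoImplicit false
set_option linter.unusedSectionVars false
set_option linter.unusedVariables false
set_option linter.style.longLine false
set_option linter.style.haveILetI false
set_option maxHeartbeats 800000
set_option synthInstance.maxHeartbeats 400000

open scoped Polynomial
open Polynomial

universe u

namespace Groth.Agent.Helper6.ValCurve

section Val

variable {k F : Type*} [Field k] [Field F] [Algebra k F]

theorem val_const (O : ValuationSubring F) (hk : (algebraMap k F).range ≤ O.toSubring)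
    (c : k) : O.valuation (algebraMap k F c) ≤ 1 := by
  rw [ValuationSubring.valuation_le_one_iff]
  exact hk ⟨c, rfl⟩

theorem val_const_eq_one (O : ValuationSubring F) (hk : (algebraMap k F).range ≤ O.toSubring)
    (c : k) (hc : c ≠ 0) : O.valuation (algebraMap k F c) = 1 := by
  have h1 := val_const O hk c
  have h2 := val_const O hk c⁻¹
  have h3 : O.valuation (algebraMap k F c) * O.valuation (algebraMap k F c⁻¹) = 1 := by
    rw [← map_mul, ← map_mul, mul_inv_cancel₀ hc, map_one, map_one]
  apply le_antisymm h1
  calc (1 : _) = O.valuation (algebraMap k F c) * O.valuation (algebraMap k F c⁻¹) := h3.symm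
    _ ≤ O.valuation (algebraMap k F c) * 1 := by gcongr
    _ = O.valuation (algebraMap k F c) := mul_one _

theorem val_aeval (O : ValuationSubring F) (hk : (algebraMap k F).range ≤ O.toSubring)
    (x : F) (hx : x ∉ O) (p : k[X]) (hp : p ≠ 0) :
    O.valuation (aeval x p) = O.valuation x ^ p.natDegree := by
  have hx1 : 1 < O.valuation x := by
    rw [← not_le, ValuationSubring.valuation_le_one_iff]
    exact hx
  have hx0 : O.valuation x ≠ 0 := (lt_trans zero_lt_one hx1).ne'
  rw [aeval_eq_sum_range, Finset.sum_range_succ]
  have hlast : O.valuation (p.coeff p.natDegree • x ^ p.natDegree) =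
      O.valuation x ^ p.natDegree := by
    rw [Algebra.smul_def, map_mul, map_pow,
      val_const_eq_one O hk _ (by simpa using hp), one_mul]
  have hlow : O.valuation (∑ i ∈ Finset.range p.natDegree, p.coeff i • x ^ i) <
      O.valuation x ^ p.natDegree := by
    apply Valuation.map_sum_lt _ (pow_ne_zero _ hx0)
    intro i hi
    rw [Finset.mem_range] at hi
    rw [Algebra.smul_def, map_mul, map_pow]
    calc O.valuation (algebraMap k F (p.coeff i)) * O.valuation x ^ i
        ≤ 1 * O.valuation x ^ i := by
          gcongr
          exact val_const O hk _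
      _ = O.valuation x ^ i := one_mul _
      _ < O.valuation x ^ p.natDegree := pow_lt_pow_right₀ hx1 hi
  rw [Valuation.map_add_eq_of_lt_right _ (by rw [hlast]; exact hlow), hlast]

theorem mem_iff_of_simple (O : ValuationSubring F) (hk : (algebraMap k F).range ≤ O.toSubring)
    (x : F) (hx : x ∉ O) (r s : k[X]) (hs : aeval x s ≠ 0) :
    aeval x r / aeval x s ∈ O ↔ (r = 0 ∨ r.natDegree ≤ s.natDegree) := by
  have hx1 : 1 < O.valuation x := by
    rw [← not_le, ValuationSubring.valuation_le_one_iff]
    exact hx
  have hx0 : O.valuation x ≠ 0 := (lt_trans zero_lt_one hx1).ne'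
  by_cases hr : r = 0
  · subst hr
    simp
  · have hs0 : s ≠ 0 := by
      rintro rfl
      exact hs (by simp)
    rw [← ValuationSubring.valuation_le_one_iff, map_div₀, val_aeval O hk x hx r hr,
      val_aeval O hk x hx s hs0,
      div_le_one₀ (zero_lt_iff.mpr (pow_ne_zero _ hx0)), pow_le_pow_iff_right₀ hx1]
    constructor
    · intro h
      exact Or.inr h
    · rintro (h | h)
      · exact absurd h hr
      · exact h

end Val

section Main

variable (k A F : Type u) [Field k] [CommRing A] [IsDomain A] [Algebra k A]
  [Algebra.FiniteType k A] [Field F] [Algebra A F] [IsFractionRing A F] [Algebra k F]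
  [IsScalarTower k A F]

/-- Noether normalisation in dimension one. -/
theorem exists_noether_one (hA : ringKrullDim A = 1) :
    ∃ g : MvPolynomial (Fin 1) k →ₐ[k] A, Function.Injective g ∧ g.Finite := by
  obtain ⟨s, g, hinj, hfin⟩ := Groth.Agent.Lib.Helper4.DimFT1.exists_noether k A
  have hdim : ringKrullDim A = s := by
    letI := g.toRingHom.toAlgebra
    haveI : IsScalarTower k (MvPolynomial (Fin s) k) A :=
      IsScalarTower.of_algebraMap_eq (fun x => (g.commutes x).symm)
    haveI : Module.Finite (MvPolynomial (Fin s) k) A := hfin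
    haveI : Algebra.IsIntegral (MvPolynomial (Fin s) k) A := Algebra.IsIntegral.of_finite _ _
    rw [Groth.Agent.Lib.Helper4.DimFT1.ringKrullDim_eq_of_isIntegral_of_injective
      (MvPolynomial (Fin s) k) A hinj,
      MvPolynomial.ringKrullDim_of_isNoetherianRing, ringKrullDim_eq_zero_of_field, zero_add,
      Nat.card_fin]
  have hs : s = 1 := by
    rw [hA] at hdim
    exact_mod_cast hdim.symm
  subst hs
  exact ⟨g, hinj, hfin⟩

variable {k A F}

/-- Elements of `A` are integral over `k[x]`, in `RingHom.IsIntegralElem` form inside `F`. -/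
theorem isIntegralElem_of_finite (g : MvPolynomial (Fin 1) k →ₐ[k] A) (hfin : g.Finite) (a : A) :
    ((algebraMap A F).comp g.toRingHom).IsIntegralElem (algebraMap A F a) := by
  have h1 : g.toRingHom.IsIntegralElem a := by
    have := RingHom.Finite.to_isIntegral hfin
    exact this a
  obtain ⟨p, hp, hpa⟩ := h1
  refine ⟨p, hp, ?_⟩
  rw [← Polynomial.hom_eval₂, hpa, map_zero]

theorem comp_mem_of_mem (g : MvPolynomial (Fin 1) k →ₐ[k] A) (R : Subring F)
    (hk : (algebraMap k F).range ≤ R) (hx : algebraMap A F (g (MvPolynomial.X 0)) ∈ R)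
    (q : MvPolynomial (Fin 1) k) : (algebraMap A F).comp g.toRingHom q ∈ R := by
  induction q using MvPolynomial.induction_on with
  | C c =>
    have : (algebraMap A F).comp g.toRingHom (MvPolynomial.C c) = algebraMap k F c := by
      change algebraMap A F (g (MvPolynomial.C c)) = _
      rw [← MvPolynomial.algebraMap_eq, g.commutes, ← IsScalarTower.algebraMap_apply]
    rw [this]
    exact hk ⟨c, rfl⟩
  | add p q hp hq =>
    rw [map_add]
    exact R.add_mem hp hq
  | mul_X p i hp =>
    rw [map_mul]
    refine R.mul_mem hp ?_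
    have hi : i = 0 := Subsingleton.elim _ _
    subst hi
    exact hx

theorem mem_of_isIntegralElem (O : ValuationSubring F) {P : Type*} [CommRing P] (φ : P →+* F)
    (hφ : ∀ q, φ q ∈ O.toSubring) (y : F) (hy : φ.IsIntegralElem y) : y ∈ O := by
  obtain ⟨ψ, hψ⟩ : ∃ ψ : P →+* O, O.subtype.comp ψ = φ :=
    ⟨φ.codRestrict O.toSubring hφ, by ext q; rfl⟩
  rw [← hψ] at hy
  have h2 : IsIntegral O y := RingHom.IsIntegralElem.of_comp hy
  obtain ⟨z, hz⟩ := (IsIntegrallyClosed.isIntegral_iff (R := O) (K := F)).mp h2
  rw [← hz]
  exact z.2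

theorem x_notMem (g : MvPolynomial (Fin 1) k →ₐ[k] A) (hfin : g.Finite)
    (O : ValuationSubring F) (hk : (algebraMap k F).range ≤ O.toSubring)
    (hA : ¬ (algebraMap A F).range ≤ O.toSubring) :
    algebraMap A F (g (MvPolynomial.X 0)) ∉ O := by
  intro hx
  apply hA
  rintro _ ⟨a, rfl⟩
  exact mem_of_isIntegralElem O _ (comp_mem_of_mem g O.toSubring hk hx) _
    (isIntegralElem_of_finite g hfin a)

theorem finiteDimensional_simple (g : MvPolynomial (Fin 1) k →ₐ[k] A) (hfin : g.Finite) :
    FiniteDimensional (IntermediateField.adjoin k {algebraMap A F (g (MvPolynomial.X 0))}) F := by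
  obtain ⟨x', hx'⟩ : ∃ x' : F, x' = algebraMap A F (g (MvPolynomial.X 0)) := ⟨_, rfl⟩
  rw [← hx']
  obtain ⟨K, hK⟩ : ∃ K : IntermediateField k F, K = IntermediateField.adjoin k {x'} := ⟨_, rfl⟩
  rw [← hK]
  have hxK : x' ∈ K := by rw [hK]; exact IntermediateField.mem_adjoin_simple_self k x'
  -- integrality over K
  have hint : ∀ a : A, IsIntegral K (algebraMap A F a) := by
    intro a
    have h1 := isIntegralElem_of_finite (F := F) g hfin a
    have hmem : ∀ q, (algebraMap A F).comp g.toRingHom q ∈ K.toSubfield.toSubring := by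
      intro q
      apply comp_mem_of_mem g K.toSubfield.toSubring
      · rintro _ ⟨c, rfl⟩
        exact K.algebraMap_mem c
      · rw [← hx']; exact hxK
    obtain ⟨ψ, hψ⟩ : ∃ ψ : MvPolynomial (Fin 1) k →+* K,
        (algebraMap K F).comp ψ = (algebraMap A F).comp g.toRingHom :=
      ⟨((algebraMap A F).comp g.toRingHom).codRestrict K.toSubfield.toSubring hmem,
        RingHom.ext fun q => rfl⟩
    rw [← hψ] at h1
    exact RingHom.IsIntegralElem.of_comp h1
  -- finite generation
  obtain ⟨t, ht⟩ := (Algebra.FiniteType.out : (⊤ : Subalgebra k A).FG)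
  obtain ⟨T, hT⟩ : ∃ T : Set F, T = (algebraMap A F) '' (t : Set A) := ⟨_, rfl⟩
  haveI : Finite T := by
    rw [hT]
    exact (t.finite_toSet.image _).to_subtype
  have hfd : FiniteDimensional K (IntermediateField.adjoin K T) := by
    apply IntermediateField.finiteDimensional_adjoin
    intro y hy
    rw [hT] at hy
    obtain ⟨a, -, rfl⟩ := hy
    exact hint a
  have hAE : ∀ a : A, algebraMap A F a ∈ IntermediateField.adjoin K T := by
    intro a
    have ha : a ∈ Algebra.adjoin k (t : Set A) := by rw [ht]; trivial
    induction ha using Algebra.adjoin_induction with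
    | mem y hy =>
      apply IntermediateField.subset_adjoin
      rw [hT]
      exact ⟨y, hy, rfl⟩
    | algebraMap c =>
      rw [← IsScalarTower.algebraMap_apply k A F,
        IsScalarTower.algebraMap_apply k K F]
      exact (IntermediateField.adjoin K T).algebraMap_mem _
    | add y z _ _ hy hz =>
      rw [map_add]
      exact add_mem hy hz
    | mul y z _ _ hy hz =>
      rw [map_mul]
      exact mul_mem hy hz
  have htop : IntermediateField.adjoin K T = ⊤ := by
    rw [eq_top_iff]
    intro f _
    obtain ⟨a, b, -, rfl⟩ := IsFractionRing.div_surjective (A := A) f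
    exact div_mem (hAE a) (hAE b)
  rw [htop] at hfd
  exact (IntermediateField.topEquiv (F := K) (E := F)).toLinearEquiv.finiteDimensional

end Main

theorem S11085_main (k A F : Type u) [Field k]
    [CommRing A] [IsDomain A] [Algebra k A] [Algebra.FiniteType k A] (hA : ringKrullDim A = 1)
    [Field F] [Algebra A F] [IsFractionRing A F] [Algebra k F] [IsScalarTower k A F] :
    {O : ValuationSubring F | (algebraMap k F).range ≤ O.toSubring ∧
        ¬ (algebraMap A F).range ≤ O.toSubring}.Finite := by
  obtain ⟨g, hinj, hfin⟩ := exists_noether_one k A hA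
  obtain ⟨x', hx'⟩ : ∃ x' : F, x' = algebraMap A F (g (MvPolynomial.X 0)) := ⟨_, rfl⟩
  haveI hfd : FiniteDimensional (IntermediateField.adjoin k {x'}) F := by
    rw [hx']
    exact finiteDimensional_simple g hfin
  by_cases hne : {O : ValuationSubring F | (algebraMap k F).range ≤ O.toSubring ∧
        ¬ (algebraMap A F).range ≤ O.toSubring}.Nonempty
  · obtain ⟨O₀, hO₀k, hO₀A⟩ := hne
    have hx₀ : x' ∉ O₀ := by rw [hx']; exact x_notMem g hfin O₀ hO₀k hO₀A
    refine Set.Finite.subset (Groth.Agent.Lib.Helper6.ValFin.over_finite
      (K := IntermediateField.adjoin k {x'}) (L := F)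
      (O₀.comap (algebraMap (IntermediateField.adjoin k {x'}) F))) ?_
    rintro O ⟨hOk, hOA⟩
    have hx : x' ∉ O := by rw [hx']; exact x_notMem g hfin O hOk hOA
    intro y
    rw [ValuationSubring.mem_comap]
    obtain ⟨r, s, hrs⟩ := (IntermediateField.mem_adjoin_simple_iff k (y : F)).mp y.2
    change (y : F) ∈ O ↔ (y : F) ∈ O₀
    rw [hrs]
    by_cases hs : aeval x' s = 0
    · rw [hs, div_zero]
      exact ⟨fun _ => O₀.zero_mem, fun _ => O.zero_mem⟩
    · rw [mem_iff_of_simple O hOk x' hx r s hs, mem_iff_of_simple O₀ hO₀k x' hx₀ r s hs]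
  · rw [Set.not_nonempty_iff_eq_empty] at hne
    rw [hne]
    exact Set.finite_empty

end Groth.Agent.Helper6.ValCurve
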